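import Groth.Agent.GenFree.Algebra
import Groth.Agent.ConstrFib.Closure

/-!
Fibrewise density of a constructible set spreads from the generic point, for algebras of finite type.
-/

set_option autoImplicit false
universe u

open PrimeSpectrum Topology TensorProduct

namespace Groth.Agent.NwDenseGen

/-- The trace of `W` is dense in the fibre over `p`. -/
def DenseOver {R B : Type u} [CommRing R] [CommRing B] [Algebra R B] (W : Set (PrimeSpectrum B))
    (p : PrimeSpectrum R) : Prop :=
  comap (algebraMap R B) ⁻¹' {p} ⊆ closure (W ∩ comap (algebraMap R B) ⁻¹' {p})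

theorem denseOver_iff_of_embedding {R B R' B' : Type u} [CommRing R] [CommRing B] [Algebra R B] [CommRing R']
    [CommRing B'] [Algebra R' B'] (φ : R →+* R') (ψ : B →+* B')
    (hcomm : (algebraMap R' B').comp φ = ψ.comp (algebraMap R B))
    (hφ : Function.Injective (comap φ)) (he : IsEmbedding (comap ψ))
    (p' : PrimeSpectrum R') (hrange : comap (algebraMap R B) ⁻¹' {comap φ p'} ⊆ Set.range (comap ψ))
    (W : Set (PrimeSpectrum B)) :
    DenseOver (comap ψ ⁻¹' W) p' ↔ DenseOver W (comap φ p') := by
  have hfib : comap (algebraMap R' B') ⁻¹' {p'} = comap ψ ⁻¹' (comap (algebraMap R B) ⁻¹' {comap φ p'}) := by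
    ext y
    simp only [Set.mem_preimage, Set.mem_singleton_iff]
    rw [← comap_comp_apply, ← hcomm, comap_comp_apply, hφ.eq_iff]
  unfold DenseOver
  rw [hfib, ← Set.preimage_inter, he.isInducing.closure_eq_preimage_closure_image,
    Set.image_preimage_eq_of_subset (Set.inter_subset_right.trans hrange)]
  exact ⟨fun h x hx => by obtain ⟨y, rfl⟩ := hrange hx; exact h hx, fun h => Set.preimage_mono h⟩

variable {R B : Type u} [CommRing R] [CommRing B] [Algebra R B] [Algebra.FiniteType R B]

theorem exists_of_isDomain [IsDomain R] (W : Set (PrimeSpectrum B)) (hW : IsConstructible W)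
    (h : DenseOver W (⊥ : PrimeSpectrum R)) :
    ∃ a : R, a ≠ 0 ∧ ∀ p : PrimeSpectrum R, a ∉ p.asIdeal → DenseOver W p := by
  classical
  obtain ⟨f, -, hf, -, -, hfp, -⟩ := GenFree.exists_generic_freeness B B (one_ne_zero (α := R))
  have hawayfp := GenFree.finitePresentation_awayMap B f hfp
  let Ra := Localization.Away f
  let T := Localization.Away (algebraMap R B f)
  algebraize [Localization.awayMap (algebraMap R B) f]
  haveI : Algebra.FinitePresentation Ra T := hawayfp
  let e := comap (algebraMap B T)
  have he : IsOpenEmbedding e := localization_away_isOpenEmbedding T (algebraMap R B f)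
  have hemb : Function.Injective (comap (algebraMap R Ra)) :=
    (localization_away_isOpenEmbedding Ra f).injective
  have hcomm : (algebraMap Ra T).comp (algebraMap R Ra) = (algebraMap B T).comp (algebraMap R B) := by
    ext r
    show Localization.awayMap (algebraMap R B) f (algebraMap R Ra r) = _
    simp [Localization.awayMap, IsLocalization.Away.map, Ra, T]
  have key : ∀ q : PrimeSpectrum Ra, DenseOver (e ⁻¹' W) q ↔ DenseOver W (comap (algebraMap R Ra) q) := by
    intro q
    refine denseOver_iff_of_embedding _ _ hcomm hemb he.isEmbedding q (fun x hx => ?_) W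
    rw [localization_away_comap_range T (algebraMap R B f)]
    intro hmem
    have hq : comap (algebraMap R Ra) q ∈ (basicOpen f : Set (PrimeSpectrum R)) :=
      localization_away_comap_range Ra f ▸ Set.mem_range_self q
    exact hq ((show comap (algebraMap R B) x = comap (algebraMap R Ra) q from hx) ▸ (show f ∈ (comap (algebraMap R B) x).asIdeal from hmem))
  let bad : Set (PrimeSpectrum Ra) :=
    comap (algebraMap Ra T) '' (ConstrFib.fclosure (comap (algebraMap Ra T)) (e ⁻¹' W))ᶜ
  have hbad : IsConstructible bad := isConstructible_comap_image hawayfp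
    (ConstrFib.isConstructible_fclosure Ra T (hW.preimage_of_isOpenEmbedding he)).compl
  have hbad' : ∀ q, DenseOver (e ⁻¹' W) q ↔ q ∉ bad := by
    intro q
    constructor
    · rintro hq ⟨y, hy, rfl⟩
      exact hy (hq rfl)
    · intro hq y hy
      rw [Set.mem_preimage, Set.mem_singleton_iff] at hy
      subst hy
      by_contra hn
      exact hq ⟨y, hn, rfl⟩
  haveI : IsDomain Ra := IsLocalization.isDomain_localization (powers_le_nonZeroDivisors_of_noZeroDivisors hf)
  have hbot : (⊥ : PrimeSpectrum Ra) ∉ closure bad := by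
    intro hmem
    obtain ⟨z, hz, hzs⟩ := ConstrFib.exists_specializes_of_mem_closure hbad hmem
    have hz0 : z = ⊥ := le_bot_iff.mp ((le_iff_specializes _ _).2 hzs)
    refine (hbad' z).mp ((key z).mpr ?_) hz
    convert h
    rw [hz0]
    ext1
    exact Ideal.comap_bot_of_injective _ (IsLocalization.injective Ra (powers_le_nonZeroDivisors_of_noZeroDivisors hf))
  obtain ⟨_, ⟨b, rfl⟩, hbmem, hbsub⟩ := isTopologicalBasis_basic_opens.exists_subset_of_mem_open
    (show (⊥ : PrimeSpectrum Ra) ∈ (closure bad)ᶜ from hbot) isClosed_closure.isOpen_compl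
  obtain ⟨b₀, ⟨_, k, rfl⟩, rfl⟩ := IsLocalization.exists_mk'_eq (Submonoid.powers f) b
  refine ⟨f * b₀, mul_ne_zero hf fun h0 => hbmem (by simp [h0]), fun p hp => ?_⟩
  obtain ⟨q, rfl⟩ : p ∈ Set.range (comap (algebraMap R Ra)) := by
    rw [localization_away_comap_range Ra f]
    exact fun hm => hp (Ideal.mul_mem_right _ _ hm)
  refine (key q).mp ((hbad' q).mpr fun hq => hbsub ?_ (subset_closure hq))
  intro hm
  refine hp (Ideal.mul_mem_left _ _ ?_)
  show algebraMap R Ra b₀ ∈ q.asIdeal
  exact (IsLocalization.mk'_spec Ra b₀ (⟨f ^ k, k, rfl⟩ : Submonoid.powers f)) ▸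
    q.asIdeal.mul_mem_right _ hm

/-- Density of a constructible set in the fibres spreads out from the generic point. -/
theorem exists_of_irreducible (η : PrimeSpectrum R) (hη : η.asIdeal = nilradical R)
    (W : Set (PrimeSpectrum B)) (hW : IsConstructible W) (h : DenseOver W η) :
    ∃ a : R, a ∉ η.asIdeal ∧ ∀ p : PrimeSpectrum R, a ∉ p.asIdeal → DenseOver W p := by
  let I := η.asIdeal
  let R' := R ⧸ I
  let B' := B ⧸ I.map (algebraMap R B)
  let φ := Ideal.Quotient.mk I
  let ψ := Ideal.Quotient.mk (I.map (algebraMap R B))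
  have hψ : IsClosedEmbedding (comap ψ) := isClosedEmbedding_comap_of_surjective _ _ Ideal.Quotient.mk_surjective
  have hψsurj : Function.Surjective (comap ψ) := by
    rw [← Set.range_eq_univ, range_comap_of_surjective _ _ Ideal.Quotient.mk_surjective]
    refine Set.eq_univ_of_forall fun x => ?_
    show (RingHom.ker ψ : Set B) ⊆ x.asIdeal
    rw [Ideal.mk_ker, SetLike.coe_subset_coe, Ideal.map_le_iff_le_comap, show I = nilradical R from hη]
    exact fun r hr => x.asIdeal.mem_comap.mpr (nilradical_le_prime _ ((mem_nilradical.mpr ((mem_nilradical.mp hr).map (algebraMap R B)))))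
  have hφinj : Function.Injective (comap φ) := (isClosedEmbedding_comap_of_surjective _ _ Ideal.Quotient.mk_surjective).injective
  have hcomm : (algebraMap R' B').comp φ = ψ.comp (algebraMap R B) := rfl
  have key : ∀ q : PrimeSpectrum R', DenseOver (comap ψ ⁻¹' W) q ↔ DenseOver W (comap φ q) := fun q =>
    denseOver_iff_of_embedding φ ψ hcomm hφinj hψ.isEmbedding q (fun x _ => hψsurj x) W
  haveI : IsScalarTower R R' B' := IsScalarTower.of_algebraMap_eq' rfl
  haveI : Algebra.FiniteType R' B' := Algebra.FiniteType.of_restrictScalars_finiteType R R' B'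
  have h0 : comap φ ⊥ = η := PrimeSpectrum.ext (Ideal.mk_ker (I := I))
  obtain ⟨a, ha, hp⟩ := exists_of_isDomain (R := R') (comap ψ ⁻¹' W)
    (ConstrFib.isConstructible_comap_preimage ψ hW) ((key ⊥).mpr (h0.symm ▸ h))
  obtain ⟨a, rfl⟩ := Ideal.Quotient.mk_surjective a
  refine ⟨a, fun hm => ha (Ideal.Quotient.eq_zero_iff_mem.mpr hm), fun p hap => ?_⟩
  obtain ⟨q, rfl⟩ : p ∈ Set.range (comap φ) := by
    rw [range_comap_of_surjective _ _ Ideal.Quotient.mk_surjective]
    show (RingHom.ker φ : Set R) ⊆ p.asIdeal
    rw [Ideal.mk_ker, SetLike.coe_subset_coe, show I = nilradical R from hη]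
    exact nilradical_le_prime _
  exact (key q).mp (hp q hap)

end Groth.Agent.NwDenseGen
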